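import Groth.Agent.CohTop.NoethColim
import Groth.Agent.CohLin.Basic
import Groth.Agent.ModShf.ToSheaf
import Groth.Agent.S2128
import Groth.Agent.HomShQC.Basic
import Groth.Prelude.Def_Canon
import Mathlib.CategoryTheory.Presentable.Directed

/-!
# Duality for coherent modules gives duality for quasi-coherent modules

`isRDualOver_of_coh`: on a Noetherian scheme over `Spec A`, a pair `(ω, tr)` for which
`φ ↦ tr ∘ H^r(φ)` is bijective on coherent `F` is an `r`-dualizing pair.
-/

universe u

open CategoryTheory CategoryTheory.Limits AlgebraicGeometry Opposite TopologicalSpace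

noncomputable section

namespace Groth.Agent.CanonDual

variable {A : Type u} [CommRing A] {X : Scheme.{u}} [X.Over (Spec (CommRingCat.of A))]

theorem HHlin_comp {F G H : X.Modules} (a : F ⟶ G) (b : G ⟶ H) (r : ℕ) :
    Canon.HHlin A (a ≫ b) r = (Canon.HHlin A b r) ∘ₗ (Canon.HHlin A a r) :=
  LinearMap.ext fun x => CohLin.hMap_comp a b r x

set_option backward.isDefEq.respectTransparency false in
theorem isCoh_of_isFP {M : X.Modules} (h : CohB1.IsFP M) : Coh.IsCoh M := by
  have : SheafOfModules.IsFinitePresentation (R := X.ringCatSheaf) M := h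
  have hft : SheafOfModules.IsFiniteType (R := X.ringCatSheaf) M := inferInstance
  obtain ⟨σ, hσ⟩ :=
    SheafOfModules.IsFinitePresentation.exists_quasicoherentData.{u} (R := X.ringCatSheaf) M
  exact ⟨{ nonempty_quasicoherentData := ⟨σ⟩ }, hft⟩

/-- Cohomology of a filtered colimit of modules comes from a stage. -/
theorem exists_rep_HH [NoetherianSpace X] {I : Type u} [SmallCategory I] [IsFiltered I]
    {D : I ⥤ X.Modules} {c : Cocone D} (hc : IsColimit c) (r : ℕ) (x : Coh.HH X c.pt r) :
    ∃ (i : I) (y : Coh.HH X (D.obj i) r), Canon.HHlin A (c.ι.app i) r y = x := by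
  obtain ⟨α, _, _, _, F, _⟩ := IsFiltered.exists_directed.{u} I
  have hc' := (Functor.Final.isColimitWhiskerEquiv F c).symm hc
  have : NoetherianSpace X.toTopCat := ‹NoetherianSpace X›
  have : PreservesColimitsOfShape α (SheafOfModules.toSheaf X.ringCatSheaf) :=
    ModShf.toSheafPreservesColimitsOfShape _ α
  have hp := @PreservesColimitsOfShape.preservesColimit _ _ _ _ _ _ (SheafOfModules.toSheaf X.ringCatSheaf) this (F ⋙ D)
  have hc'' := @isColimitOfPreserves _ _ _ _ _ _ (F ⋙ D) (SheafOfModules.toSheaf X.ringCatSheaf) _ hc' hp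
  obtain ⟨i, y, hy⟩ := CohTop.NoethColim.exists_rep (X := X.toTopCat) hc'' r ⊤
    (CohTop.Basic.HEquivHUTop _ r x)
  obtain ⟨y', rfl⟩ := (CohTop.Basic.HEquivHUTop _ r).surjective y
  refine ⟨F.obj i, y', (CohTop.Basic.HEquivHUTop _ r).injective (Eq.trans ?_ hy)⟩
  exact CohTop.Basic.HEquivHUTop_map _ r y'

/-- Bijectivity on coherent modules gives an `r`-dualizing pair. -/
theorem isRDualOver_of_coh [IsNoetherian X] {r : ℕ} {ω : X.Modules} (hω : Coh.IsQCoh ω)
    (tr : Coh.HH X ω r →ₗ[A] A)
    (h : ∀ F : X.Modules, Coh.IsCoh F → Function.Bijective (Canon.dualityMap A X r ω tr F)) :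
    Canon.IsRDualOver A X r ω tr := by
  refine ⟨hω, fun F hF => ?_⟩
  obtain ⟨I, _, _, D, c, hc, hfp, rfl⟩ := S2128.result X F hF
  have hb : ∀ i, Function.Bijective (Canon.dualityMap A X r ω tr (D.obj i)) :=
    fun i => h _ (isCoh_of_isFP (hfp i))
  have hcomp : ∀ {P Q : X.Modules} (a : P ⟶ Q) (φ : Q ⟶ ω),
      Canon.dualityMap A X r ω tr P (a ≫ φ) =
        (Canon.dualityMap A X r ω tr Q φ) ∘ₗ (Canon.HHlin A a r) := fun a φ => by
    rw [Canon.dualityMap, Canon.dualityMap, HHlin_comp, LinearMap.comp_assoc]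
  constructor
  · intro φ φ' hφ
    refine hc.hom_ext fun i => (hb i).1 ?_
    rw [hcomp, hcomp, hφ]
  · intro ψ
    choose φ hφ using fun i => (hb i).2 (ψ ∘ₗ Canon.HHlin A (c.ι.app i) r)
    let s : Cocone D :=
      { pt := ω
        ι :=
          { app := φ
            naturality := fun i j g => by
              refine Eq.trans ((hb i).1 ?_) (Category.comp_id _).symm
              rw [hcomp, hφ, hφ, LinearMap.comp_assoc, ← HHlin_comp, c.w] } }
    refine ⟨hc.desc s, LinearMap.ext fun x => ?_⟩
    obtain ⟨i, y, rfl⟩ := exists_rep_HH (A := A) hc r x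
    rw [← LinearMap.comp_apply, ← hcomp, hc.fac s i]
    exact LinearMap.congr_fun (hφ i) y

end Groth.Agent.CanonDual

end
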