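import Groth.Agent.ProperFin.FinEx
import Groth.Agent.CohBase.FlatBC.Affine
import Groth.Prelude.Def_Canon

/-!
# Cohomology of an affine direct image, naturally and linearly over an affine base

`pushHH f w M i : H^i(X, M) ≃ₗ[A] H^i(Y, f_* M)` for `f` affine and `M` quasi-coherent, and
`pushHH_natural`: it commutes with morphisms of modules.
-/

universe u

open CategoryTheory Limits Opposite TopologicalSpace AlgebraicGeometry
open Groth.Agent.CohAff Groth.Agent.ProperFin

noncomputable section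

namespace Groth.Agent.CanonDual

variable {A : Type u} [CommRing A] {X Y : Scheme.{u}} [X.Over (Spec (CommRingCat.of A))]
  [Y.Over (Spec (CommRingCat.of A))] (f : X ⟶ Y) [IsAffineHom f]
  (w : f ≫ (Y ↘ Spec (CommRingCat.of A)) = X ↘ Spec (CommRingCat.of A))

theorem addEquivOfKer_apply {G B C : Type*} [AddCommGroup G] [AddCommGroup B] [AddCommGroup C]
    (p : G →+ B) (q : G →+ C) (hp : Function.Surjective p) (hq : Function.Surjective q)
    (h : ∀ a, p a = 0 ↔ q a = 0) (a : G) : addEquivOfKer p q hp hq h (p a) = q a := by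
  have e : (QuotientAddGroup.quotientKerEquivOfSurjective p hp).symm (p a) = QuotientAddGroup.mk a :=
    (AddEquiv.symm_apply_eq _).mpr rfl
  rw [addEquivOfKer, AddEquiv.trans_apply, e]
  rfl

/-- `H^i(X, M) ≃+ H^i(Y, f_* M)` sending the class of a cocycle to the class of the same cocycle. -/
def pushHHAdd (M : X.Modules) [Coh.IsQCoh M] (i : ℕ) :
    Coh.HH X M i ≃+ Coh.HH Y ((Coh.push f).obj M) i :=
  addEquivOfKer ((FRes.ofMod M).clsTop i) (((FRes.ofMod M).pushAff f).clsTop i)
    ((FRes.ofMod M).clsTop_surjective i) (((FRes.ofMod M).pushAff f).clsTop_surjective i)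
    fun a ↦ ((FRes.ofMod M).clsTop_eq_zero_iff i a).trans
      (((FRes.ofMod M).ex_pushAff_iff f i ⊤ a).symm.trans
        (((FRes.ofMod M).pushAff f).clsTop_eq_zero_iff i a).symm)

theorem pushHHAdd_cls (M : X.Modules) [Coh.IsQCoh M] (i : ℕ)
    (a : Γ((FRes.ofMod M).Z i, ⊤)) :
    pushHHAdd f M i ((FRes.ofMod M).clsTop i a) = ((FRes.ofMod M).pushAff f).clsTop i a :=
  addEquivOfKer_apply _ _ _ _ _ a

/-- `H^i(X, M) ≃ₗ[A] H^i(Y, f_* M)` for `f` affine and `M` quasi-coherent. -/
def pushHH (M : X.Modules) [Coh.IsQCoh M] (i : ℕ) :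
    Coh.HH X M i ≃ₗ[A] Coh.HH Y ((Coh.push f).obj M) i :=
  (pushHHAdd f M i).toLinearEquiv fun c y => by
    let R := FRes.ofMod M
    obtain ⟨a, rfl⟩ := R.clsTop_surjective i y
    refine (congrArg (pushHHAdd f M i) (R.clsTop_smul i (glob A X c) a).symm).trans ?_
    refine (pushHHAdd_cls f M i (glob A X c • a)).trans ?_
    refine Eq.trans (congrArg ((R.pushAff f).clsTop i) ?_)
      (((R.pushAff f).clsTop_smul i (glob A Y c) a).trans
        (congrArg ((show Coh.Γtop Y from glob A Y c) • ·) (pushHHAdd_cls f M i a).symm))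
    exact (congrArg (fun r : Γ(X, ⊤) => r • a) (toGlobal_comp f w c)).symm.trans
      (push_smul' f (R.Z i) (glob A Y c) a).symm

theorem pushHH_cls (M : X.Modules) [Coh.IsQCoh M] (i : ℕ) (a : Γ((FRes.ofMod M).Z i, ⊤)) :
    pushHH f w M i ((FRes.ofMod M).clsTop i a) = ((FRes.ofMod M).pushAff f).clsTop i a :=
  pushHHAdd_cls f M i a

/-- `pushHH` is natural. -/
theorem pushHH_natural {M N : X.Modules} [Coh.IsQCoh M] [Coh.IsQCoh N] (φ : M ⟶ N) (i : ℕ)
    (x : Coh.HH X M i) :
    pushHH f w N i (Canon.HHlin A φ i x) =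
      Canon.HHlin A ((Coh.push f).map φ) i (pushHH f w M i x) := by
  let R := FRes.ofMod M
  let R' := FRes.ofMod N
  obtain ⟨a, rfl⟩ := R.clsTop_surjective i x
  let α : CohBase.FlatBC.Lift R R' :=
    CohBase.FlatBC.Lift.mk' φ (CohBase.FlatBC.injective_ofMod_J N)
  let β : CohBase.FlatBC.Lift (R.pushAff f) (R'.pushAff f) :=
    { φ := fun n => (Scheme.Modules.pushforward f).map (α.φ n)
      ψ := fun n => (Scheme.Modules.pushforward f).map (α.ψ n)
      ι_comm := fun n => ((Functor.map_comp _ _ _).symm.trans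
        (congrArg (Scheme.Modules.pushforward f).map (α.ι_comm n))).trans (Functor.map_comp _ _ _)
      p_comm := fun n => ((Functor.map_comp _ _ _).symm.trans
        (congrArg (Scheme.Modules.pushforward f).map (α.p_comm n))).trans (Functor.map_comp _ _ _) }
  have h1 : R'.clsTop i ((α.φ i).app ⊤ a) = Canon.HHlin A φ i (R.clsTop i a) :=
    α.toAbHom.clsTop i a
  have h2 : (R'.pushAff f).clsTop i ((α.φ i).app ⊤ a) =
      Canon.HHlin A ((Coh.push f).map φ) i ((R.pushAff f).clsTop i a) :=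
    β.toAbHom.clsTop i a
  rw [← h1, pushHH_cls, pushHH_cls]
  exact h2

end Groth.Agent.CanonDual

end
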